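import Groth.Agent.DerLib.KInjUse
import Groth.Agent.DerLib.KInjTriangulated
import Groth.Agent.DerLib.KInjEnough
import Groth.Prelude.Def_DCoh2
import Mathlib.Algebra.Homology.Refinements
import Mathlib.Algebra.Homology.DerivedCategory.Fractions
import Mathlib.CategoryTheory.Limits.Preserves.Shapes.Products

/-!
# Localization preserves countable products when these are exact
-/

set_option autoImplicit false
set_option linter.unusedSectionVars false
set_option linter.style.haveILetI false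

universe w w' v v' u u'

open CategoryTheory CategoryTheory.Limits HomologicalComplex Pretriangulated Groth.Agent.DerLib

namespace QProdLib

section B

variable {B : Type u} [Category.{v} B] [Abelian B] [HasProductsOfShape ℕ B]
  [(lim : (Discrete ℕ ⥤ B) ⥤ B).PreservesEpimorphisms]

theorem epi_pi_map {X Y : ℕ → B} (f : ∀ n, X n ⟶ Y n) [∀ n, Epi (f n)] : Epi (Limits.Pi.map f) := by
  let α : Discrete.functor X ⟶ Discrete.functor Y := Discrete.natTrans fun i => f i.as
  haveI : ∀ i, Epi (α.app i) := fun i => inferInstanceAs (Epi (f i.as))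
  haveI : Epi α := NatTrans.epi_of_epi_app α
  exact (lim : (Discrete ℕ ⥤ B) ⥤ B).map_epi α

/-- Countably many covers of an object have a common refinement. -/
theorem exists_common {A₀ : B} (A : ℕ → B) (p : ∀ n, A n ⟶ A₀) [∀ n, Epi (p n)] :
    ∃ (A' : B) (π : A' ⟶ A₀) (_ : Epi π) (q : ∀ n, A' ⟶ A n), ∀ n, q n ≫ p n = π := by
  haveI := epi_pi_map p
  refine ⟨pullback (Limits.Pi.map p) (Pi.lift fun _ : ℕ => 𝟙 A₀), pullback.snd _ _, inferInstance,
    fun n => pullback.fst _ _ ≫ Pi.π A n, fun n => ?_⟩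
  have := congrArg (fun z => z ≫ Pi.π (fun _ : ℕ => A₀) n)
    (pullback.condition (f := Limits.Pi.map p) (g := Pi.lift fun _ : ℕ => 𝟙 A₀))
  simpa using this

variable {J J' : ℕ → CochainComplex B ℤ}

theorem hom_ext_X (i : ℤ) {T : B} {f g : T ⟶ (∏ᶜ J).X i}
    (h : ∀ n, f ≫ (Pi.π J n).f i = g ≫ (Pi.π J n).f i) : f = g :=
  (isLimitOfPreserves (eval B (ComplexShape.up ℤ) i) (productIsProduct J)).hom_ext fun n => h n.as

theorem exists_lift_X (i : ℤ) {T : B} (x : ∀ n, T ⟶ (J n).X i) :
    ∃ f : T ⟶ (∏ᶜ J).X i, ∀ n, f ≫ (Pi.π J n).f i = x n :=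
  ⟨(isLimitOfPreserves (eval B (ComplexShape.up ℤ) i) (productIsProduct J)).lift
      ⟨T, Discrete.natTrans fun n => x n.as⟩,
    fun n => (isLimitOfPreserves (eval B (ComplexShape.up ℤ) i) (productIsProduct J)).fac
      ⟨T, Discrete.natTrans fun n => x n.as⟩ ⟨n⟩⟩

theorem quasiIso_pi_map (s : ∀ n, J n ⟶ J' n) [∀ n, QuasiIso (s n)] : QuasiIso (Limits.Pi.map s) := by
  have hs : ∀ (n : ℕ) (i : ℤ), (Limits.Pi.map s).f i ≫ (Pi.π J' n).f i = (Pi.π J n).f i ≫ (s n).f i :=
    fun n i => by rw [← comp_f, ← comp_f, Limits.Pi.map_π]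
  rw [quasiIso_iff]
  intro j
  rw [quasiIsoAt_iff_isIso_homologyMap]
  haveI : Mono (homologyMap (Limits.Pi.map s) j) := by
    rw [mono_homologyMap_iff_up_to_refinements _ (j - 1) j (j + 1) (by simp) (by simp)]
    intro A x hx y hy
    have h : ∀ n, ∃ (A' : B) (π : A' ⟶ A) (_ : Epi π) (x₁ : A' ⟶ (J n).X (j - 1)),
        π ≫ x ≫ (Pi.π J n).f j = x₁ ≫ (J n).d (j - 1) j := fun n => by
      refine (mono_homologyMap_iff_up_to_refinements (s n) (j - 1) j (j + 1) (by simp) (by simp)).1
        inferInstance _ ?_ (y ≫ (Pi.π J' n).f (j - 1)) ?_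
      · rw [Category.assoc, (Pi.π J n).comm, reassoc_of% hx, zero_comp]
      · rw [Category.assoc, ← hs, reassoc_of% hy, ← (Pi.π J' n).comm, Category.assoc]
    choose A' π hπ x₁ hx₁ using h
    obtain ⟨A'', π', hπ', q, hq⟩ := exists_common A' π
    obtain ⟨f, hf⟩ := exists_lift_X (J := J) (j - 1) fun n => q n ≫ x₁ n
    refine ⟨A'', π', hπ', f, hom_ext_X j fun n => ?_⟩
    rw [Category.assoc, Category.assoc, ← (Pi.π J n).comm, ← Category.assoc f, hf, Category.assoc,
      ← hx₁, reassoc_of% (hq n)]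
  haveI : Epi (homologyMap (Limits.Pi.map s) j) := by
    rw [epi_homologyMap_iff_up_to_refinements _ (j - 1) j (j + 1) (by simp) (by simp)]
    intro A z hz
    have h : ∀ n, ∃ (A' : B) (π : A' ⟶ A) (_ : Epi π) (x : A' ⟶ (J n).X j) (_ : x ≫ (J n).d j (j + 1) = 0)
        (y : A' ⟶ (J' n).X (j - 1)), π ≫ z ≫ (Pi.π J' n).f j = x ≫ (s n).f j + y ≫ (J' n).d (j - 1) j := fun n => by
      refine (epi_homologyMap_iff_up_to_refinements (s n) (j - 1) j (j + 1) (by simp) (by simp)).1
        inferInstance _ ?_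
      rw [Category.assoc, (Pi.π J' n).comm, reassoc_of% hz, zero_comp]
    choose A' π hπ x hx y hy using h
    obtain ⟨A'', π', hπ', q, hq⟩ := exists_common A' π
    obtain ⟨f, hf⟩ := exists_lift_X (J := J) j fun n => q n ≫ x n
    obtain ⟨g, hg⟩ := exists_lift_X (J := J') (j - 1) fun n => q n ≫ y n
    refine ⟨A'', π', hπ', f, hom_ext_X (j + 1) fun n => ?_, g, hom_ext_X (J := J') j fun n => ?_⟩
    · rw [Category.assoc, ← (Pi.π J n).comm, ← Category.assoc f, hf, Category.assoc, hx, comp_zero, zero_comp]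
    · rw [Preadditive.add_comp, Category.assoc, Category.assoc, Category.assoc, hs, ← Category.assoc f, hf,
        ← (Pi.π J' n).comm, ← Category.assoc g, hg, Category.assoc, Category.assoc, ← Preadditive.comp_add,
        ← hy, reassoc_of% (hq n)]
  exact isIso_of_mono_of_epi _

variable [HasDerivedCategory.{w} B]

/-- Localization preserves countable products. -/
theorem isLimit_Q_pi (J : ℕ → CochainComplex B ℤ) :
    Nonempty (IsLimit (Fan.mk (DerivedCategory.Q.obj (∏ᶜ J))
      fun n => DerivedCategory.Q.map (Pi.π J n))) := by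
  let c : Fan (fun n => DerivedCategory.Q.obj (J n)) :=
    Fan.mk (DerivedCategory.Q.obj (∏ᶜ J)) fun n => DerivedCategory.Q.map (Pi.π J n)
  have zero : ∀ (W : CochainComplex B ℤ) (d : DerivedCategory.Q.obj W ⟶ DerivedCategory.Q.obj (∏ᶜ J)),
      (∀ n, d ≫ DerivedCategory.Q.map (Pi.π J n) = 0) → d = 0 := by
    intro W d hd
    obtain ⟨W', t, ht, g, rfl⟩ := DerivedCategory.right_fac d
    have hg : ∀ n, ∃ (Z : CochainComplex B ℤ) (r : J n ⟶ Z), QuasiIso r ∧
        (HomotopyCategory.quotient B (ComplexShape.up ℤ)).map (g ≫ Pi.π J n ≫ r) = 0 := fun n => by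
      have h0 : DerivedCategory.Q.map (g ≫ Pi.π J n) = 0 := by
        have h' := hd n
        rw [Category.assoc, ← Functor.map_comp] at h'
        exact (cancel_epi (inv (DerivedCategory.Q.map t))).1 (h'.trans comp_zero.symm)
      have h1 : DerivedCategory.Qh.map ((HomotopyCategory.quotient B (ComplexShape.up ℤ)).map (g ≫ Pi.π J n)) =
          DerivedCategory.Qh.map 0 := by
        rw [Functor.map_zero]
        exact h0
      obtain ⟨Z, r, hr, hgr⟩ := (MorphismProperty.map_eq_iff_postcomp DerivedCategory.Qh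
        (HomotopyCategory.quasiIso B (ComplexShape.up ℤ)) _ _).1 h1
      obtain ⟨Z, rfl⟩ := HomotopyCategory.quotient_obj_surjective Z
      obtain ⟨r, rfl⟩ := (HomotopyCategory.quotient B (ComplexShape.up ℤ)).map_surjective r
      refine ⟨Z, r, (mem_quasiIso_iff _).1 ((HomotopyCategory.quotient_map_mem_quasiIso_iff r).1 hr), ?_⟩
      rw [← Category.assoc, Functor.map_comp, hgr, zero_comp]
    choose Z r hr hgr using hg
    haveI := hr
    haveI := quasiIso_pi_map r
    have h2 : DerivedCategory.Q.map (g ≫ Limits.Pi.map r) = 0 :=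
      KInjUse.Q_map_zero_of_quotient (KInjUse.quotient_eq_zero_of_pi _ fun n => by
        rw [Category.assoc, Limits.Pi.map_π]
        exact hgr n)
    rw [Functor.map_comp] at h2
    rw [(cancel_mono (DerivedCategory.Q.map (Limits.Pi.map r))).1 (h2.trans zero_comp.symm), comp_zero]
  suffices key : ∀ (W : DerivedCategory B) (g : ∀ n, W ⟶ DerivedCategory.Q.obj (J n)),
      ∃! l, ∀ n, l ≫ c.proj n = g n from
    ⟨mkFanLimit c (fun s => (key s.pt s.proj).choose)
      (fun s t => (key s.pt s.proj).choose_spec.1 t)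
      (fun s m hm => (key s.pt s.proj).choose_spec.2 m hm)⟩
  intro W g
  let eW := DerivedCategory.Q.objObjPreimageIso W
  choose Y a s hs has using fun n => DerivedCategory.left_fac (eW.hom ≫ g n)
  haveI : ∀ n, QuasiIso (s n) := fun n => (DerivedCategory.isIso_Q_map_iff_quasiIso _ _).1 (hs n)
  haveI := quasiIso_pi_map s
  have hfac : ∀ n, (eW.inv ≫ DerivedCategory.Q.map (Pi.lift a) ≫ inv (DerivedCategory.Q.map (Limits.Pi.map s))) ≫
      c.proj n = g n := fun n => by
    rw [← cancel_epi eW.hom, has n]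
    show eW.hom ≫ (_ ≫ _ ≫ _) ≫ DerivedCategory.Q.map (Pi.π J n) = _
    rw [Category.assoc, Category.assoc, Iso.hom_inv_id_assoc, ← cancel_mono (DerivedCategory.Q.map (s n))]
    simp only [Category.assoc, IsIso.inv_hom_id, Category.comp_id, ← Functor.map_comp, ← Limits.Pi.map_π]
    rw [Functor.map_comp, IsIso.inv_hom_id_assoc, ← Functor.map_comp, Pi.lift_π]
  refine ⟨_, hfac, fun y hy => ?_⟩
  rw [← cancel_epi eW.hom, ← sub_eq_zero, ← Preadditive.comp_sub]
  refine zero _ _ fun n => ?_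
  rw [Category.assoc, Preadditive.sub_comp, show y ≫ DerivedCategory.Q.map (Pi.π J n) = g n from hy n,
    show _ ≫ DerivedCategory.Q.map (Pi.π J n) = g n from hfac n, sub_self, comp_zero]

end B

section Main

variable {A : Type u} [Category.{v} A] [Abelian A] [IsGrothendieckAbelian.{v} A] [HasDerivedCategory.{w} A]
  {B : Type u'} [Category.{v'} B] [Abelian B] [HasDerivedCategory.{w'} B]
  [HasProductsOfShape ℕ B] [(lim : (Discrete ℕ ⥤ B) ⥤ B).PreservesEpimorphisms]
  (F : A ⥤ B) [F.Additive] [PreservesLimitsOfShape (Discrete ℕ) F]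
  (RF : DerivedCategory A ⥤ DerivedCategory B)
  (α : F.mapHomotopyCategory (ComplexShape.up ℤ) ⋙ DerivedCategory.Qh ⟶ DerivedCategory.Qh ⋙ RF)
  [RF.IsRightDerivedFunctor α (HomotopyCategory.quasiIso A (ComplexShape.up ℤ))]

/-- The unit on complexes. -/
noncomputable def β :
    F.mapHomologicalComplex (ComplexShape.up ℤ) ⋙ DerivedCategory.Q ⟶ DerivedCategory.Q ⋙ RF :=
  Functor.whiskerLeft _ (DerivedCategory.quotientCompQhIso B).inv ≫ (Functor.associator _ _ _).inv ≫
    Functor.whiskerRight (F.mapHomotopyCategoryFactors (ComplexShape.up ℤ)).inv DerivedCategory.Qh ≫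
    (Functor.associator _ _ _).hom ≫ Functor.whiskerLeft _ α ≫ (Functor.associator _ _ _).inv ≫
    Functor.whiskerRight (DerivedCategory.quotientCompQhIso A).hom RF

theorem isIso_β_app (I : CochainComplex A ℤ) [I.IsKInjective] : IsIso ((β F RF α).app I) := by
  haveI := KInjDerived.isIso_app RF α (KInjDerived.enoughKInj A) I
  simp only [β, NatTrans.comp_app, Functor.whiskerLeft_app, Functor.whiskerRight_app]
  infer_instance

include α in
/-- The total right derived functor preserves countable products. -/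
theorem isLimit_map_pi (K : ℕ → DerivedCategory A) [HasProduct K] :
    Nonempty (IsLimit (Fan.mk (RF.obj (∏ᶜ K)) fun n => RF.map (Pi.π K n))) := by
  haveI : HasProductsOfShape ℕ A := hasLimitsOfShape_of_equivalence (Discrete.equivalence (Equiv.ulift.{v}))
  choose I hI eI using fun n => KInjUse.exists_iso_Q_kInjective (K n)
  haveI : ∀ n, (I n).IsKInjective := hI
  haveI := KInjUse.isKInjective_pi I hI
  let e := fun n => (eI n).some
  let P := DerivedCategory.Q.obj (∏ᶜ I)
  let cA : Fan K := Fan.mk P fun n => DerivedCategory.Q.map (Pi.π I n) ≫ (e n).inv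
  have hcA : IsLimit cA := by
    suffices key : ∀ (W : DerivedCategory A) (g : ∀ n, W ⟶ K n), ∃! l, ∀ n, l ≫ cA.proj n = g n from
      mkFanLimit cA (fun s => (key s.pt s.proj).choose)
        (fun s t => (key s.pt s.proj).choose_spec.1 t)
        (fun s m hm => (key s.pt s.proj).choose_spec.2 m hm)
    intro W g
    let eW := DerivedCategory.Q.objObjPreimageIso W
    choose g' hg' using fun n => KInjUse.Q_map_surjective _ (I n) (eW.hom ≫ g n ≫ (e n).hom)
    refine ⟨eW.inv ≫ DerivedCategory.Q.map (Pi.lift g'), fun n => ?_, fun y hy => ?_⟩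
    · show (eW.inv ≫ DerivedCategory.Q.map (Pi.lift g')) ≫ DerivedCategory.Q.map (Pi.π I n) ≫ (e n).inv = g n
      rw [Category.assoc, ← Functor.map_comp_assoc, Pi.lift_π, hg']
      simp
    · obtain ⟨y', hy'⟩ := KInjUse.Q_map_surjective _ (∏ᶜ I) (eW.hom ≫ y)
      rw [← cancel_epi eW.hom, Iso.hom_inv_id_assoc, ← hy', ← sub_eq_zero, ← Functor.map_sub]
      refine KInjUse.Q_map_zero_of_quotient (KInjUse.quotient_eq_zero_of_pi _ fun n => KInjUse.quotient_eq_zero_of_Q ?_)
      rw [Functor.map_comp, Functor.map_sub, Preadditive.sub_comp, hy', ← Functor.map_comp,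
        Pi.lift_π, hg', sub_eq_zero, Category.assoc, ← cancel_mono (e n).inv]
      simp only [Category.assoc, Iso.hom_inv_id, Category.comp_id]
      exact congrArg (eW.hom ≫ ·) (hy n)
  let F' := F.mapHomologicalComplex (ComplexShape.up ℤ)
  haveI : PreservesLimit (Discrete.functor I) F' :=
    preservesLimit_of_preserves_limit_cone (productIsProduct I) (isLimitOfEval _ _ fun i =>
      isLimitOfPreserves F (isLimitOfPreserves (eval A (ComplexShape.up ℤ) i) (productIsProduct I)))
  let σ := (productIsProduct K).conePointUniqueUpToIso hcA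
  have hσ : ∀ n, σ.inv ≫ Pi.π K n = DerivedCategory.Q.map (Pi.π I n) ≫ (e n).inv := fun n =>
    IsLimit.conePointUniqueUpToIso_inv_comp _ hcA ⟨n⟩
  let τ : DerivedCategory.Q.obj (∏ᶜ fun n => F'.obj (I n)) ≅ RF.obj (∏ᶜ K) :=
    DerivedCategory.Q.mapIso (PreservesProduct.iso F' I).symm ≪≫
      (haveI := isIso_β_app F RF α (∏ᶜ I); asIso ((β F RF α).app (∏ᶜ I))) ≪≫ RF.mapIso σ.symm
  let k : ∀ n, DerivedCategory.Q.obj (F'.obj (I n)) ≅ RF.obj (K n) := fun n =>
    (haveI := isIso_β_app F RF α (I n); asIso ((β F RF α).app (I n))) ≪≫ RF.mapIso (e n).symm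
  have hτ : ∀ n, τ.hom ≫ RF.map (Pi.π K n) = DerivedCategory.Q.map (Pi.π (fun n => F'.obj (I n)) n) ≫ (k n).hom := fun n => by
    simp only [τ, k, Iso.trans_hom, Functor.mapIso_hom, Iso.symm_hom, asIso_hom, Category.assoc]
    rw [← Functor.map_comp, hσ, Functor.map_comp]
    have hnat := (β F RF α).naturality (Pi.π I n)
    refine (congrArg (_ ≫ ·) (((Category.assoc _ _ _).symm.trans (congrArg (· ≫ RF.map (e n).inv) hnat.symm)).trans (Category.assoc _ _ _))).trans ?_
    refine (Category.assoc _ _ _).symm.trans (congrArg (· ≫ _) ?_)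
    exact (DerivedCategory.Q.map_comp _ _).symm.trans (congrArg _
      ((Iso.inv_comp_eq _).2 ((PreservesProduct.iso_hom F' I).symm ▸ (piComparison_comp_π F' I n).symm)))
  exact ⟨(IsLimit.postcomposeHomEquiv (Discrete.natIso fun i => k i.as : Discrete.functor (fun n => DerivedCategory.Q.obj (F'.obj (I n))) ≅ Discrete.functor fun n => RF.obj (K n)) _).symm
    (isLimit_Q_pi fun n => F'.obj (I n)).some |>.ofIsoLimit (Cone.ext τ fun j => (hτ j.as).symm)⟩

include α in
theorem isRlim_map (K : ℕ → DerivedCategory A) (t : ∀ n, K (n + 1) ⟶ K n) (L : DerivedCategory A) [HasProduct K]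
    [HasProduct fun n => RF.obj (K n)] (hL : DCoh.IsRlim K t L) :
    DCoh.IsRlim (fun n => RF.obj (K n)) (fun n => RF.map (t n)) (RF.obj L) := by
  obtain ⟨_, _⟩ := KInjDerived.exists_isTriangulated_map (KInjDerived.enoughKInj A) F RF α
  obtain ⟨a, c, hT⟩ := hL
  let φ : RF.obj (∏ᶜ K) ≅ ∏ᶜ fun n => RF.obj (K n) := (isLimit_map_pi F RF α K).some.conePointUniqueUpToIso (productIsProduct fun n => RF.obj (K n))
  have hφ : ∀ n, φ.hom ≫ Pi.π (fun n => RF.obj (K n)) n = RF.map (Pi.π K n) := fun n =>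
    IsLimit.conePointUniqueUpToIso_hom_comp _ _ (Discrete.mk n)
  refine ⟨RF.map a ≫ φ.hom, φ.inv ≫ RF.map c ≫ (RF.commShiftIso (1 : ℤ)).hom.app L, ?_⟩
  refine Pretriangulated.isomorphic_distinguished _ (RF.map_distinguished _ hT) _ ?_
  refine Iso.symm ?_
  refine Triangle.isoMk _ _ (Iso.refl _) φ φ ?_ ?_ ?_
  · exact (Category.id_comp _).symm
  · refine Pi.hom_ext _ _ fun n => ?_
    change (RF.map (Pi.lift fun n => Pi.π K n - Pi.π K (n + 1) ≫ t n) ≫ φ.hom) ≫
        Pi.π (fun n => RF.obj (K n)) n =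
      (φ.hom ≫ Pi.lift fun n => Pi.π (fun n => RF.obj (K n)) n -
        Pi.π (fun n => RF.obj (K n)) (n + 1) ≫ RF.map (t n)) ≫ Pi.π (fun n => RF.obj (K n)) n
    rw [Category.assoc, Category.assoc, Pi.lift_π, hφ, ← Functor.map_comp, Pi.lift_π,
      Preadditive.comp_sub, hφ, ← Category.assoc φ.hom, hφ, ← Functor.map_comp, ← Functor.map_sub]
  · change (RF.map c ≫ (RF.commShiftIso (1 : ℤ)).hom.app L) ≫ (𝟙 (RF.obj L))⟦(1 : ℤ)⟧' =
      φ.hom ≫ φ.inv ≫ RF.map c ≫ (RF.commShiftIso (1 : ℤ)).hom.app L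
    rw [Iso.hom_inv_id_assoc, CategoryTheory.Functor.map_id]
    exact Category.comp_id _

end Main

end QProdLib
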